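import Cfsg.Agent.Lib.ONSub.CheckJBStep0
import Cfsg.Agent.Lib.ONSub.CheckJBStep1
import Cfsg.Agent.Lib.ONSub.CheckJBStep2
import Cfsg.Agent.Lib.ONSub.CheckJBStep3
import Cfsg.Agent.Lib.ONSub.CheckJBStep4
import Cfsg.Agent.Lib.CosetEnum.Blocks
import Cfsg.Agent.Lib.ONSub.DataJB

/-!
Kernel checks of coset enumeration data.
-/

set_option autoImplicit false
set_option Elab.async false

namespace CfsgLib.ONSub
open CfsgLib.CosetEnum

theorem certJB_entry0 : allUp certJB.entryOK' 13 (0 * 2 ^ 13) = true := by decide +kernel

theorem certJB_entry1 : allUp certJB.entryOK' 13 (1 * 2 ^ 13) = true := by decide +kernel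

theorem certJB_entry2 : allUp certJB.entryOK' 13 (2 * 2 ^ 13) = true := by decide +kernel

theorem certJB_entry3 : allUp certJB.entryOK' 13 (3 * 2 ^ 13) = true := by decide +kernel

theorem certJB_complete : certJB.Complete :=
  Cert.complete_of_blocks₂ _ (k := 13) (n := 5) (k₂ := 13) (n₂ := 4) (by decide +kernel)
    (fun j hj => by
      match j, hj with
      | 0, _ => exact certJB_step0
      | 1, _ => exact certJB_step1
      | 2, _ => exact certJB_step2
      | 3, _ => exact certJB_step3
      | 4, _ => exact certJB_step4
      | n + 5, h => omega)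
    (by decide +kernel)
    (fun j hj => by
      match j, hj with
      | 0, _ => exact certJB_entry0
      | 1, _ => exact certJB_entry1
      | 2, _ => exact certJB_entry2
      | 3, _ => exact certJB_entry3
      | n + 4, h => omega)
    (by decide +kernel)

end CfsgLib.ONSub
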