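import Cfsg.Agent.Lib.CosetEnum.Use
import Cfsg.Agent.Lib.ONSub.DataMB

/-!
Kernel checks of coset enumeration data.
-/

set_option autoImplicit false

namespace CfsgLib.ONSub
open CfsgLib.CosetEnum

theorem certMB_complete : certMB.Complete :=
  Cert.complete_of _ 14 11 (by decide +kernel) (by decide +kernel) (by decide +kernel)
    (by decide +kernel) (by decide +kernel)

end CfsgLib.ONSub
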