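import Cfsg.Agent.Lib.CosetEnum.Basic

/-!
Coset enumeration data: 1 cosets, 2 nodes, 6 facts.
-/

set_option autoImplicit false
set_option linter.style.longLine false

namespace CfsgLib.ONSub
open CfsgLib.CosetEnum

/-- the certificate -/
def certMX : Cert where
  K := 3
  invs := [0, 2, 1]
  rels := [[0, 0],
    [1, 1, 1, 1],
    [0, 1, 0, 1, 0, 1, 0, 1, 0, 1, 0, 1, 0, 1, 0, 1, 0, 1, 0, 1, 0, 1],
    [0, 1, 1, 0, 1, 1, 0, 1, 1, 0, 1, 1, 0, 1, 1, 0, 1, 1],
    [0, 1, 0, 1, 0, 2, 0, 1, 0, 1, 1, 0, 2, 0, 1, 0, 2, 0, 2],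
    [0, 1]]
  subs := []
  N := 1
  M := 2
  F := 6
  defs := (.leaf 0x0)
  facts := (.leaf 0x10000002e0000000200000080000000010000002a0000000200000000000000098000000400000024000000c000010000800000020000005c0000008000010000800000000000202c00000040000100000000000000000000000008000000)
  refs := (.leaf 0x4000007000001000007000003000001000003000001000005000001000003000001000005000002000000000002000000000004000000000002000000000002000000000000000000)
  tab := (.leaf 0x0)
  nd := (.leaf 0x0)
  edge := (.leaf 0xa00000b000009)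
  img := (.leaf 0x0)

end CfsgLib.ONSub
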