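import Cfsg.Agent.Lib.CosetEnum.Chain

/-!
Orbit chain data.
-/

set_option autoImplicit false
set_option linter.style.longLine false

namespace CfsgLib.ONSub
open CfsgLib.CosetEnum

/-- part 0 of a tree -/
def levelsJTree0Part0 : List (ℕ × ℕ) := [(0, 0), (0, 1), (7, 1), (25, 0), (25, 1), (8, 0), (8, 1), (24, 1), (1, 0), (9, 1), (28, 0), (23, 0), (23, 1), (2, 1), (10, 0), (10, 1), (39, 1), (22, 1), (36, 0), (3, 0), (3, 1), (11, 1), (29, 0), (53, 0), (53, 1), (21, 0), (21, 1), (47, 1), (4, 1), (26, 0), (30, 0), (30, 1), (40, 1), (73, 1), (52, 0), (20, 1), (35, 0), (69, 0), (69, 1), (27, 0), (27, 1), (37, 1), (41, 1), (12, 0), (55, 0), (55, 1), (91, 0), (91, 1), (65, 1), (34, 0), (34, 1), (46, 1), (87, 1), (68, 0), (38, 1), (5, 0), (49, 0), (49, 1), (57, 1), (13, 1), (75, 1), (54, 0), (118, 1), (90, 0), (64, 0), (19, 0), (67, 0), (67, 1), (114, 0), (114, 1), (86, 1), (51, 0), (51, 1), (70, 1), (56, 0), (14, 0), (14, 1), (95, 0), (95, 1), (74, 1), (119, 0), (119, 1), (117, 1), (83,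 1), (18, 1), (85, 1), (66, 0), (135, 1), (113, 0), (89, 0), (71, 1), (76, 1), (15, 1), (31, 0), (98, 1), (94, 0), (93, 0), (142, 0), (141, 0), (141, 1)]

/-- part 1 of a tree -/
def levelsJTree0Part1 : List (ℕ × ℕ) := [(100, 0), (100, 1), (17, 0), (17, 1), (112, 0), (112, 1), (84, 1), (131, 0), (131, 1), (134, 1), (116, 1), (88, 0), (97, 0), (97, 1), (32, 0), (42, 1), (77, 0), (77, 1), (121, 1), (120, 1), (175, 1), (174, 1), (140, 0), (124, 1), (33, 0), (105, 1), (111, 0), (110, 0), (162, 0), (168, 0), (168, 1), (139, 0), (139, 1), (115, 1), (122, 1), (96, 0), (43, 1), (99, 0), (146, 0), (146, 1), (144, 0), (144, 1), (212, 0), (212, 1), (210, 0), (210, 1), (173, 1), (152, 0), (152, 1), (44, 1), (81, 0), (81, 1), (133, 1), (132, 1), (195, 1), (201, 1), (167, 0), (172, 1), (138, 0), (137, 0), (137, 1), (148, 0), (148, 1), (104, 1), (61, 0), (61, 1), (123, 1), (179, 1), (145, 0), (177, 1), (143, 0), (211, 0), (262, 1), (209, 0), (208, 0), (151, 0), (63, 0), (106, 0), (166, 0), (166,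 1), (164, 0), (164, 1), (246, 0), (246, 1), (256, 0), (256, 1), (171, 1), (170, 1), (136, 0), (147, 0), (103, 0), (60, 0), (150, 0), (150, 1), (218, 0), (218, 1), (178, 1), (214, 0), (263, 1), (308, 0)]

/-- part 2 of a tree -/
def levelsJTree0Part2 : List (ℕ × ℕ) := [(308, 1), (261, 1), (260, 1), (184, 1), (82, 1), (128, 1), (199, 1), (165, 0), (197, 1), (163, 0), (288, 1), (245, 0), (296, 1), (255, 0), (206, 0), (206, 1), (204, 1), (169, 1), (180, 1), (127, 1), (79, 1), (183, 1), (149, 0), (266, 1), (217, 0), (216, 0), (310, 0), (307, 0), (306, 0), (306, 1), (304, 0), (304, 1), (226, 0), (226, 1), (108, 0), (108, 1), (159, 0), (159, 1), (254, 0), (254, 1), (198, 1), (250, 0), (250, 1), (196, 1), (353, 0), (353, 1), (287, 1), (365, 0), (365, 1), (295, 1), (259, 1), (203, 0), (202, 0), (220, 0), (220, 1), (157, 0), (157, 1), (102, 0), (102, 1), (224, 1), (182, 1), (269, 0), (269, 1), (265, 1), (264, 1), (374, 1), (373, 1), (372, 1), (305, 0), (370, 1), (303, 0), (272, 1), (130,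 1), (107, 0), (192, 1), (158, 0), (294, 1), (253, 0), (252, 0), (249, 0), (248, 0), (248, 1), (354, 1), (352, 0), (351, 0), (364, 0), (363, 0), (363, 1), (302, 1), (258, 1), (257, 1), (268, 1), (219, 0), (190, 1), (156, 0), (126, 1), (223, 0), (222, 0), (315, 0), (314, 0)]

/-- part 3 of a tree -/
def levelsJTree0Part3 : List (ℕ × ℕ) := [(314, 1), (312, 0), (312, 1), (430, 0), (430, 1), (428, 0), (428, 1), (426, 0), (426, 1), (371, 1), (422, 0), (422, 1), (327, 1), (324, 0), (324, 1), (125, 1), (129, 1), (240, 0), (240, 1), (191, 1), (281, 0), (281, 1), (292, 1), (291, 1), (290, 1), (289, 1), (406, 1), (405, 1), (414, 1), (413, 1), (301, 0), (300, 0), (300, 1), (298, 0), (298, 1), (318, 0), (318, 1), (267, 1), (236, 0), (236, 1), (189, 1), (155, 0), (155, 1), (271, 1), (270, 1), (378, 1), (377, 1), (311, 0), (429, 0), (512, 1), (427, 0), (510, 1), (425, 0), (424, 0), (421, 0), (274, 0), (274, 1), (330, 1), (323, 0), (153, 0), (161, 0), (161, 1), (241, 1), (239, 0), (238, 0), (361,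 1), (359, 0), (359, 1), (357, 0), (357, 1), (355, 0), (408, 1), (488, 0), (488, 1), (501, 0), (501, 1), (499, 0), (499, 1), (369, 1), (368, 1), (297, 0), (381, 1), (317, 0), (316, 0), (235, 0), (234, 0), (234, 1), (188, 1), (154, 0), (322, 0), (322, 1), (320, 0), (320, 1), (434, 0), (434, 1), (417, 0), (375, 1), (585, 0), (511, 1), (582, 0)]

/-- part 4 of a tree -/
def levelsJTree0Part4 : List (ℕ × ℕ) := [(582, 1), (509, 1), (508, 1), (507, 1), (228, 1), (329, 1), (386, 1), (194, 1), (193, 1), (283, 1), (282, 1), (360, 0), (411, 1), (358, 0), (409, 1), (489, 0), (557, 1), (487, 0), (568, 1), (500, 0), (566, 1), (498, 0), (420, 0), (420, 1), (418, 0), (366, 1), (440, 0), (440, 1), (380, 1), (379, 1), (279, 1), (278, 1), (232, 1), (187, 1), (385, 1), (321, 0), (383, 1), (319, 0), (516, 1), (433, 0), (503, 1), (432, 0), (584, 0), (581, 0), (580, 0), (580, 1), (578, 0), (578, 1), (576, 0), (576, 1), (227, 0), (275, 0), (450, 0), (450, 1), (244, 0), (244, 1), (242, 0), (343, 0), (343,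 1), (341, 0), (341, 1), (412, 1), (495, 0), (495, 1), (410, 1), (491, 0), (491, 1), (558, 1), (640, 0), (640, 1), (556, 1), (655, 0), (655, 1), (567, 1), (651, 0), (651, 1), (565, 1), (506, 1), (419, 0), (416, 0), (439, 0), (438, 0), (438, 1), (436, 0), (436, 1), (338, 0), (338, 1), (336, 0), (336, 1), (231, 0), (230, 0), (448, 0), (448, 1), (384, 1), (444, 0), (444, 1), (382, 1), (591, 0), (591, 1), (515, 1)]

/-- part 5 of a tree -/
def levelsJTree0Part5 : List (ℕ × ℕ) := [(572, 0), (572, 1), (514, 1), (668, 1), (667, 1), (666, 1), (579, 0), (664, 1), (577, 0), (530, 0), (273, 1), (528, 1), (449, 0), (286, 1), (243, 0), (284, 1), (399, 1), (342, 0), (397, 1), (340, 0), (497, 0), (497, 1), (562, 1), (494, 0), (493, 0), (490, 0), (642, 0), (639, 0), (533, 0), (533, 1), (724, 1), (654, 0), (653, 0), (650, 0), (649, 0), (649, 1), (575, 0), (575, 1), (505, 1), (502, 1), (520, 1), (519, 1), (437, 0), (468, 1), (435, 0), (337, 0), (393, 1), (335, 0), (277, 1), (276, 1), (447, 0), (446,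 0), (443, 0), (442, 0), (442, 1), (595, 1), (590, 0), (589, 0), (571, 0), (587, 0), (587, 1), (670, 1), (741, 0), (741, 1), (739, 0), (739, 1), (665, 1), (735, 0), (452, 1), (326, 0), (326, 1), (531, 0), (531, 1), (527, 1), (349, 1), (285, 1), (345, 0), (345, 1), (476, 0), (476, 1), (398, 1), (472, 0), (472, 1), (396, 1), (564, 1), (563, 1), (561, 1), (560, 1), (559, 1), (713, 1), (608, 1), (455, 1), (686, 1), (722, 1), (721, 1), (720, 1), (648, 0), (574, 0), (573, 0), (570, 0)]

/-- part 6 of a tree -/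
def levelsJTree0Part6 : List (ℕ × ℕ) := [(570, 1), (549, 0), (549, 1), (593, 0), (593, 1), (518, 1), (467, 0), (394, 1), (464, 0), (464, 1), (392, 1), (334, 0), (334, 1), (332, 1), (524, 1), (523, 1), (522, 1), (521, 1), (673, 1), (672, 1), (658, 1), (671, 1), (742, 0), (832, 1), (740, 0), (830, 1), (738, 0), (737, 0), (451, 0), (453, 1), (604, 0), (603, 0), (348, 0), (347, 0), (347, 1), (401, 1), (344, 0), (547, 1), (475, 0), (471, 0), (470, 0), (470, 1), (542, 1), (647, 0), (646, 0), (646, 1), (602, 0), (644, 0), (644, 1), (808, 0), (808, 1), (607, 0), (607, 1), (389, 1), (822, 0), (822, 1), (820, 0), (820, 1), (818, 0), (818, 1), (719, 1), (660, 1), (659, 1), (657, 1), (569, 0), (478, 1), (594, 0), (674, 1), (592, 0), (466, 0), (463, 0), (462, 0), (462, 1), (391, 1), (333, 0), (601, 0), (601, 1), (599, 0), (599, 1), (553, 0), (553, 1), (596, 0), (747, 0), (746, 1), (729, 0), (729, 1), (744, 0), (744, 1), (833, 1), (888, 0), (888, 1), (831, 1), (885, 0), (885, 1), (829, 1),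 (797, 1), (529, 1), (388, 1), (682, 1), (681, 1)]

/-- part 7 of a tree -/
def levelsJTree0Part7 : List (ℕ × ℕ) := [(404, 1), (346, 0), (480, 0), (480, 1), (548, 1), (546, 1), (544, 1), (543, 1), (621, 0), (718, 1), (717, 1), (645, 0), (680, 1), (643, 0), (807, 0), (685, 1), (456, 0), (873, 1), (872, 1), (819, 0), (871, 1), (817, 0), (734, 0), (733, 0), (733, 1), (727, 1), (656, 1), (675, 1), (749, 0), (749, 1), (540, 1), (539, 1), (538, 1), (461, 0), (460, 0), (460, 1), (390, 1), (679, 1), (600, 0), (677, 1), (598, 0), (484, 1), (597, 0), (676, 1), (834, 1), (745, 0), (825, 1), (890, 0), (890, 1), (949, 1), (866, 0), (887, 0), (884, 0), (883, 0), (883, 1), (706, 0), (706, 1), (606, 0), (606, 1), (762, 0), (762, 1), (760, 0), (486, 0), (486, 1), (402, 1), (479, 0), (628, 0), (627, 0), (625, 0), (625, 1), (623, 1), (698, 1), (816, 1), (814, 0), (814, 1), (759, 0), (759, 1), (714, 1), (864, 1), (766, 0), (766, 1), (940, 0), (940, 1), (826, 1), (778, 1), (848, 0), (848, 1), (870,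 1), (828, 1), (827, 1), (732, 0), (726, 0), (725, 0), (751, 0), (748, 0), (620, 0), (620, 1), (618, 0), (618, 1), (616, 0)]

/-- part 8 of a tree -/
def levelsJTree0Part8 : List (ℕ × ℕ) := [(616, 1), (537, 1), (459, 0), (458, 0), (757, 1), (678, 1), (700, 1), (634, 1), (483, 0), (635, 1), (753, 0), (753, 1), (768, 1), (879, 0), (879, 1), (951, 1), (950, 1), (933, 1), (948, 1), (947, 1), (860, 0), (630, 1), (798, 0), (605, 0), (763, 1), (761, 0), (839, 1), (555, 1), (482, 0), (703, 1), (702, 1), (624, 0), (622, 0), (790, 1), (815, 0), (868, 1), (810, 0), (930, 1), (841, 1), (711, 0), (847, 0), (910, 0), (938, 0), (938, 1), (882, 0), (882, 1), (880, 0), (880, 1), (776, 1), (824, 1), (823, 1), (795, 1), (835, 1), (619, 0), (695, 1), (617, 0), (693, 1), (535, 1), (534, 1), (756, 0), (755, 0), (754, 0), (633, 0), (554, 1), (806, 1), (752, 0), (687, 0), (687, 1), (902, 1), (878, 0), (977, 1), (988, 0), (867, 1), (987, 0), (987, 1), (985, 1), (765, 1), (840, 1), (899, 0), (899, 1), (551,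 1), (788, 0), (794, 0), (794, 1), (701, 1), (789, 0), (936, 0), (936, 1), (865, 1), (962, 1), (922, 1), (937, 0), (946, 1), (881, 0), (944, 1), (846, 0), (877, 0), (877, 1), (875, 0), (875, 1)]

/-- part 9 of a tree -/
def levelsJTree0Part9 : List (ℕ × ℕ) := [(893, 0), (696, 1), (785, 0), (785, 1), (694, 1), (781, 0), (781, 1), (613, 0), (613, 1), (611, 0), (838, 1), (709, 1), (636, 0), (842, 1), (943, 1), (972, 0), (993, 1), (934, 0), (1018, 1), (986, 0), (984, 0), (764, 0), (901, 0), (898, 0), (632, 0), (632, 1), (855, 1), (793, 0), (792, 0), (935, 0), (932, 0), (963, 0), (963, 1), (921, 0), (976, 1), (983, 0), (983, 1), (945, 1), (980, 0), (980, 1), (775, 1), (942, 1), (787, 0), (787, 1), (852, 1), (784, 0), (783, 0), (780, 0), (612, 0), (688, 1), (897, 0), (897, 1), (804, 0), (804, 1), (903, 0), (978, 0), (978, 1), (992, 0), (974, 1), (1031, 0), (1031, 1), (799, 1), (925, 1), (955, 1), (708, 1), (920, 1), (858, 1), (975, 1), (973, 1), (912, 1), (1000, 0), (928, 1), (969, 0),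 (982, 0), (961, 0), (979, 0), (774, 0), (958, 0), (854, 1), (853, 1), (851, 1), (850, 1), (689, 1), (771, 0), (771, 1), (996, 1), (957, 0), (1020, 1), (1015, 0), (1015, 1), (1042, 1), (1025, 0), (707, 1), (861, 1), (967, 0), (967, 1), (802, 1), (919, 0), (924, 0), (953, 1)]

/-- part 10 of a tree -/
def levelsJTree0Part10 : List (ℕ × ℕ) := [(1013, 1), (1011, 1), (927, 0), (1017, 1), (909, 1), (918, 0), (862, 1), (914, 0), (914, 1), (773, 0), (770, 0), (995, 0), (1026, 1), (1028, 1), (1027, 1), (1009, 1), (991, 0), (1010, 0), (1030, 0), (1030, 1), (908, 0), (968, 1), (915, 0), (965, 1), (913, 0), (844, 1), (1021, 1), (1034, 0), (1041, 0), (1041, 1), (1043, 0), (1029, 0), (960, 1), (959, 1), (966, 1), (1004, 0), (1004, 1), (964, 1), (1036, 0), (1037, 1), (999, 1), (1003, 0), (1023, 1), (1040, 0)]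

/-- a tree -/
def levelsJTree0 : List (ℕ × ℕ) :=
  [levelsJTree0Part0, levelsJTree0Part1, levelsJTree0Part2, levelsJTree0Part3, levelsJTree0Part4, levelsJTree0Part5, levelsJTree0Part6, levelsJTree0Part7, levelsJTree0Part8, levelsJTree0Part9, levelsJTree0Part10].flatten


/-- level 0 -/
def levelsJLevel0 : Level := ⟨0, [[0],
    [1]], levelsJTree0,
    0x1fffffffffffffffffffffffffffffffffffffffffffffffffffffffffffffffffffffffffffffffffffffffffffffffffffffffffffffffffffffffffffffffffffffffffffffffffffffffffffffffffffffffffffffffffffffffffffffffffffffffffffffffffffffffffffffffffffffffffffffffffffffffffffffffffffff⟩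

/-- part 0 of a tree -/
def levelsJTree1Part0 : List (ℕ × ℕ) := [(1, 0), (1, 1), (159, 0), (159, 1), (275, 0), (275, 1), (248, 1), (883, 0), (883, 1), (426, 0), (426, 1), (484, 0), (484, 1), (18, 0), (18, 1), (421, 0), (421, 1), (497, 0), (497, 1), (665, 1), (1028, 0), (1028, 1), (736, 0), (736, 1), (260, 0), (260, 1), (486, 0), (486, 1), (680, 0), (680, 1), (670, 1), (548, 0), (548, 1), (22, 0), (22, 1), (759, 0), (759, 1), (937, 0), (937, 1), (677, 0), (237, 0), (237, 1), (628, 1), (150, 0), (242, 0), (242, 1), (821, 0), (478, 1), (350, 0), (350, 1), (946, 0), (946, 1), (111, 0), (111, 1), (457, 0), (457, 1), (190, 0), (32, 0), (32, 1), (360, 1), (142, 0), (329, 0), (329, 1), (489, 0), (695, 0), (695, 1), (997, 0), (997, 1), (675, 1), (990, 0), (990, 1), (352, 0), (352, 1), (810, 0), (805, 0), (805, 1), (673, 0), (673, 1), (676, 0), (505, 0), (505, 1), (645, 1), (419, 0), (155, 0), (155, 1), (955, 0), (704, 0), (704, 1), (683, 0), (683, 1), (440, 1), (322, 0), (322, 1), (841,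 0), (841, 1), (935, 0), (113, 0), (113, 1), (597, 1), (520, 0)]

/-- part 1 of a tree -/
def levelsJTree1Part1 : List (ℕ × ℕ) := [(520, 1), (400, 0), (400, 1), (512, 0), (529, 0), (927, 1), (901, 0), (602, 0), (198, 0), (198, 1), (301, 0), (301, 1), (107, 0), (107, 1), (449, 1), (118, 0), (118, 1), (874, 0), (874, 1), (916, 0), (868, 0), (868, 1), (842, 1), (238, 0), (238, 1), (714, 0), (714, 1), (965, 0), (785, 0), (216, 1), (671, 0), (123, 0), (815, 0), (815, 1), (799, 0), (799, 1), (52, 0), (52, 1), (447, 0), (963, 0), (756, 1), (353, 1), (11, 0), (11, 1), (336, 0), (336, 1), (969, 0), (710, 0), (77, 1), (116, 0), (547, 0), (380, 0), (380, 1), (337, 0), (337, 1), (782, 0), (782, 1), (871, 0), (213, 0), (292, 1), (207, 0), (207, 1), (826, 0), (826, 1), (160, 0), (244, 0), (942, 1)]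

/-- a tree -/
def levelsJTree1 : List (ℕ × ℕ) :=
  [levelsJTree1Part0, levelsJTree1Part1].flatten


/-- level 1 -/
def levelsJLevel1 : Level := ⟨1, [[1, 0, 2, 0, 1, 0, 1, 0, 2, 0, 1, 0, 2],
    [0, 2, 0, 2, 0, 1, 0, 2, 0, 1, 0, 1, 0, 2, 0, 1, 0, 1, 0, 1]], levelsJTree1,
    0x1000001020400002eb0804428080100020000c0490150006000420842080024400029002910002044100a4093ac20200208018000004600000000041180002010902020a50400403428100042800410000501113234c0b020504802210008800500114601001228240400102838848400148528900100820020010001102440802⟩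

/-- the levels -/
def levelsJ : List Level := [levelsJLevel0, levelsJLevel1]

end CfsgLib.ONSub
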