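import Cfsg.Agent.Lib.CosetEnum.Chain

/-!
Orbit chain data.
-/

set_option autoImplicit false
set_option linter.style.longLine false

namespace CfsgLib.ONSub
open CfsgLib.CosetEnum

/-- part 0 of a tree -/
def levelsMTree0Part0 : List (ℕ × ℕ) := [(0, 0), (1, 1), (2, 0), (2, 1), (4, 0), (4, 1), (6, 1), (8, 1), (9, 0), (9, 1)]

/-- a tree -/
def levelsMTree0 : List (ℕ × ℕ) :=
  [levelsMTree0Part0].flatten


/-- level 0 -/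
def levelsMLevel0 : Level := ⟨0, [[0],
    [1]], levelsMTree0,
    0x7ff⟩

/-- part 0 of a tree -/
def levelsMTree1Part0 : List (ℕ × ℕ) := [(1, 0), (1, 1), (5, 0), (2, 1), (4, 1), (7, 1), (9, 0), (9, 1), (10, 1)]

/-- a tree -/
def levelsMTree1 : List (ℕ × ℕ) :=
  [levelsMTree1Part0].flatten


/-- level 1 -/
def levelsMLevel1 : Level := ⟨1, [[2],
    [0, 2, 0, 1, 0, 2, 1, 1, 0]], levelsMTree1,
    0x7fe⟩

/-- part 0 of a tree -/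
def levelsMTree2Part0 : List (ℕ × ℕ) := [(2, 0), (2, 1), (2, 2), (2, 3), (9, 0), (4, 0), (4, 1), (4, 2)]

/-- a tree -/
def levelsMTree2 : List (ℕ × ℕ) :=
  [levelsMTree2Part0].flatten


/-- level 2 -/
def levelsMLevel2 : Level := ⟨2, [[2, 0, 2, 0, 1, 0, 1, 0],
    [1, 0, 2, 0, 1, 0, 1, 0, 2],
    [0, 2, 0, 2, 2, 2, 0, 1, 0, 2, 2, 0, 2, 0, 1, 0, 1, 0, 2, 2],
    [0, 2, 0, 2, 0, 1, 0, 2, 2, 2]], levelsMTree2,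
    0x7fc⟩

/-- part 0 of a tree -/
def levelsMTree3Part0 : List (ℕ × ℕ) := [(3, 0), (3, 1), (3, 2), (3, 3), (5, 0), (5, 1), (9, 0)]

/-- a tree -/
def levelsMTree3 : List (ℕ × ℕ) :=
  [levelsMTree3Part0].flatten


/-- level 3 -/
def levelsMLevel3 : Level := ⟨3, [[0, 2, 0, 2, 0, 1, 0, 1, 1, 0, 2, 0, 1, 0, 1, 0, 2, 2, 0, 2, 0, 1, 0, 1, 0],
    [0, 2, 0, 2, 0, 1, 0, 1, 0, 2, 0, 2, 2, 2, 0, 1, 0, 2, 2, 0, 2, 0, 1, 0, 1, 0, 2, 2, 2, 0, 2, 0, 1, 0, 1, 0],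
    [1, 0, 2, 0, 2, 0, 1, 0, 2, 0, 2, 0, 2, 0, 1, 0, 1, 1, 0, 2, 0, 1, 1, 1, 0, 1, 0, 2],
    [1, 0, 2, 0, 2, 2, 0, 1, 0, 2, 2, 0, 2, 0, 1, 0, 1, 0, 2, 0, 2, 0, 1, 0, 1, 0, 1, 0, 2, 0, 1, 0, 1, 0, 2]], levelsMTree3,
    0x7f8⟩

/-- the levels -/
def levelsM : List Level := [levelsMLevel0, levelsMLevel1, levelsMLevel2, levelsMLevel3]

end CfsgLib.ONSub
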