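import Cfsg.Agent.Lib.CosetEnum.Chain
import Cfsg.Agent.Lib.ONSub.CheckJA

/-!
Suborbits.
-/

set_option autoImplicit false
set_option linter.style.longLine false

namespace CfsgLib.ONSub
open CfsgLib.CosetEnum

/-- part 0 of a tree -/
def subTreeJ0Part0 : List (ℕ × ℕ) := [(40, 1), (131, 0), (131, 1), (203, 1), (725, 0), (96, 0), (179, 1)]

/-- a tree -/
def subTreeJ0 : List (ℕ × ℕ) :=
  [subTreeJ0Part0].flatten


/-- suborbit 0, of length 8 -/
def subMaskJ0 : ℕ := 0x20000000000000000000000000000000000000000000000000000000000000000000000000000000000000000000000000000000000000000000210000000000000800000800000000000800000001000000000000010000000000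

theorem subMaskJ0_closed : allUp (maskClosed certJA subMaskJ0) 11 0 = true := by
  decide +kernel

theorem subMaskJ0_tree :
    (reach certJA certJA.subs subTreeJ0 (2 ^ 40) == some subMaskJ0) = true := by decide +kernel

theorem subMaskJ0_orbit : Suborbit certJA 40 subMaskJ0 :=
  ⟨⟨by decide +kernel, by decide +kernel⟩,
    fun x hx => allUp_spec subMaskJ0_closed x (Nat.zero_le _)
      (by have : certJA.N = 1045 := rfl; omega),
    _, beq_iff_eq.mp subMaskJ0_tree⟩

theorem subMaskJ0_size : popc subMaskJ0 1045 = 8 := by decide +kernel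

/-- part 0 of a tree -/
def subTreeJ1Part0 : List (ℕ × ℕ) := [(33, 0), (33, 1), (93, 0), (93, 1), (716, 0), (716, 1), (71, 1), (124, 0), (124, 1), (718, 0), (718, 1), (1030, 0), (556, 0), (556, 1), (608, 0), (608, 1), (182, 1), (385, 0), (385, 1), (691, 0), (691, 1), (662, 1), (741, 1), (663, 0), (335, 0), (989, 1), (816, 1)]

/-- a tree -/
def subTreeJ1 : List (ℕ × ℕ) :=
  [subTreeJ1Part0].flatten


/-- suborbit 1, of length 28 -/
def subMaskJ1 : ℕ := 0x40000000042400000000000000000000000000000800000000000100000000000000000020004050000008000000c008080000000100000000000010000000000000000000000000000000000000008002000000000000800080000000000000000000000000000000004000000000000010002000200002800000000200000000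

theorem subMaskJ1_closed : allUp (maskClosed certJA subMaskJ1) 11 0 = true := by
  decide +kernel

theorem subMaskJ1_tree :
    (reach certJA certJA.subs subTreeJ1 (2 ^ 33) == some subMaskJ1) = true := by decide +kernel

theorem subMaskJ1_orbit : Suborbit certJA 33 subMaskJ1 :=
  ⟨⟨by decide +kernel, by decide +kernel⟩,
    fun x hx => allUp_spec subMaskJ1_closed x (Nat.zero_le _)
      (by have : certJA.N = 1045 := rfl; omega),
    _, beq_iff_eq.mp subMaskJ1_tree⟩

theorem subMaskJ1_size : popc subMaskJ1 1045 = 28 := by decide +kernel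

/-- part 0 of a tree -/
def subTreeJ2Part0 : List (ℕ × ℕ) := [(3, 0), (3, 1), (212, 0), (212, 1), (44, 0), (44, 1), (58, 1), (461, 0), (461, 1), (625, 0), (625, 1), (694, 1), (371, 0), (371, 1), (863, 1), (637, 0), (637, 1), (251, 1), (847, 0), (847, 1), (702, 0), (702, 1), (707, 0), (707, 1), (438, 0), (866, 0), (866, 1), (802, 1), (204, 1), (988, 0), (800, 0), (800, 1), (1025, 0), (1025, 1), (959, 0), (801, 0), (60, 1), (652, 0), (908, 0), (908, 1), (231, 0), (309, 1), (82, 0), (82, 1), (245, 1), (409, 0), (409, 1), (221, 0), (559, 1), (999, 1), (318, 0), (318, 1), (55, 0), (469, 1), (163, 0)]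

/-- a tree -/
def subTreeJ2 : List (ℕ × ℕ) :=
  [subTreeJ2Part0].flatten


/-- suborbit 2, of length 56 -/
def subMaskJ2 : ℕ := 0x20000008010000000800000000000100000000904800080400000000700400000000010000000010840400000000010002002000000010000000080000000004020000000002020000240000002001000020800000000000040200000100000000828008020101000000000280000000200000000000400081480100000000048

theorem subMaskJ2_closed : allUp (maskClosed certJA subMaskJ2) 11 0 = true := by
  decide +kernel

theorem subMaskJ2_tree :
    (reach certJA certJA.subs subTreeJ2 (2 ^ 3) == some subMaskJ2) = true := by decide +kernel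

theorem subMaskJ2_orbit : Suborbit certJA 3 subMaskJ2 :=
  ⟨⟨by decide +kernel, by decide +kernel⟩,
    fun x hx => allUp_spec subMaskJ2_closed x (Nat.zero_le _)
      (by have : certJA.N = 1045 := rfl; omega),
    _, beq_iff_eq.mp subMaskJ2_tree⟩

theorem subMaskJ2_size : popc subMaskJ2 1045 = 56 := by decide +kernel

/-- part 0 of a tree -/
def subTreeJ3Part0 : List (ℕ × ℕ) := [(29, 0), (29, 1), (298, 0), (298, 1), (431, 0), (431, 1), (234, 1), (333, 0), (333, 1), (498, 0), (498, 1), (375, 1), (774, 0), (566, 0), (566, 1), (490, 0), (490, 1), (929, 1), (818, 1), (979, 0), (979, 1), (376, 1), (719, 1), (133, 0), (133, 1), (542, 1), (325, 0), (535, 1), (465, 0), (465, 1), (921, 0), (386, 1), (158, 0), (158, 1), (623, 0), (381, 1), (951, 0), (508, 0), (145, 0), (145, 1), (502, 1), (349, 0), (349, 1), (732, 1), (632, 1), (283, 0), (283, 1), (47, 0), (47, 1), (753, 0), (271, 0), (915, 0), (585, 0), (379, 0), (379, 1)]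

/-- a tree -/
def subTreeJ3 : List (ℕ × ℕ) :=
  [subTreeJ3Part0].flatten


/-- suborbit 3, of length 56 -/
def subMaskJ3 : ℕ := 0x880000090004202080000000000000000002000042800100000400002000a10008000000080000000000001008000000202000040000040800000104c04002002800000008000000000042980000020002020000004000c0082000080040000000000000000004002002000000000000000000000800020000000

theorem subMaskJ3_closed : allUp (maskClosed certJA subMaskJ3) 11 0 = true := by
  decide +kernel

theorem subMaskJ3_tree :
    (reach certJA certJA.subs subTreeJ3 (2 ^ 29) == some subMaskJ3) = true := by decide +kernel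

theorem subMaskJ3_orbit : Suborbit certJA 29 subMaskJ3 :=
  ⟨⟨by decide +kernel, by decide +kernel⟩,
    fun x hx => allUp_spec subMaskJ3_closed x (Nat.zero_le _)
      (by have : certJA.N = 1045 := rfl; omega),
    _, beq_iff_eq.mp subMaskJ3_tree⟩

theorem subMaskJ3_size : popc subMaskJ3 1045 = 56 := by decide +kernel

/-- part 0 of a tree -/
def subTreeJ4Part0 : List (ℕ × ℕ) := [(51, 0), (51, 1), (56, 0), (56, 1), (650, 0), (650, 1), (139, 1), (402, 0), (402, 1), (389, 0), (389, 1), (482, 0), (482, 1), (890, 1), (885, 1), (545, 1), (70, 0), (70, 1), (328, 0), (328, 1), (140, 0), (140, 1), (941, 0), (941, 1), (985, 0), (985, 1), (728, 1), (731, 0), (61, 0), (61, 1), (685, 1), (214, 0), (513, 1), (189, 0), (1021, 1), (312, 1), (241, 0), (429, 0), (429, 1), (435, 0), (269, 1), (110, 0), (110, 1), (573, 0), (561, 0), (905, 0), (270, 0), (605, 1), (417, 1), (192, 0), (192, 1), (892, 0), (514, 0), (791, 0), (1022, 1)]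

/-- a tree -/
def subTreeJ4 : List (ℕ × ℕ) :=
  [subTreeJ4Part0].flatten


/-- suborbit 4, of length 56 -/
def subMaskJ4 : ℕ := 0x6000000002000000000020000000028014200000000010000010000000800000000000000900000000002000000004010000000020080000e002000204000206000000040000000000082002002400200000000000000100010000000002600000020000004000012010000000001800000040000ca000402108000000000000

theorem subMaskJ4_closed : allUp (maskClosed certJA subMaskJ4) 11 0 = true := by
  decide +kernel

theorem subMaskJ4_tree :
    (reach certJA certJA.subs subTreeJ4 (2 ^ 51) == some subMaskJ4) = true := by decide +kernel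

theorem subMaskJ4_orbit : Suborbit certJA 51 subMaskJ4 :=
  ⟨⟨by decide +kernel, by decide +kernel⟩,
    fun x hx => allUp_spec subMaskJ4_closed x (Nat.zero_le _)
      (by have : certJA.N = 1045 := rfl; omega),
    _, beq_iff_eq.mp subMaskJ4_tree⟩

theorem subMaskJ4_size : popc subMaskJ4 1045 = 56 := by decide +kernel

/-- part 0 of a tree -/
def subTreeJ5Part0 : List (ℕ × ℕ) := [(1, 0), (1, 1), (159, 0), (159, 1), (275, 0), (275, 1), (248, 1), (883, 0), (883, 1), (426, 0), (426, 1), (484, 0), (484, 1), (18, 0), (18, 1), (421, 0), (421, 1), (497, 0), (497, 1), (665, 1), (1028, 0), (1028, 1), (736, 0), (736, 1), (260, 0), (260, 1), (486, 0), (486, 1), (680, 0), (680, 1), (670, 1), (548, 0), (548, 1), (22, 0), (22, 1), (759, 0), (759, 1), (937, 0), (937, 1), (677, 0), (237, 0), (237, 1), (628, 1), (150, 0), (242, 0), (242, 1), (821, 0), (478, 1), (350, 0), (350, 1), (946, 0), (946, 1), (111, 0), (111, 1), (457, 0), (457, 1), (190, 0), (32, 0), (32, 1), (360, 1), (142, 0), (329, 0), (329, 1), (489, 0), (695, 0), (695, 1),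 (997, 0), (997, 1), (675, 1), (990, 0), (990, 1), (352, 0), (352, 1), (810, 0), (805, 0), (805, 1), (673, 0), (673, 1), (676, 0), (505, 0), (505, 1), (645, 1), (419, 0), (155, 0), (155, 1), (955, 0), (704, 0), (704, 1), (683, 0), (683, 1), (440, 1), (322, 0), (322, 1), (841, 0), (841, 1), (935, 0), (113, 0), (113, 1), (597, 1), (520, 0)]

/-- part 1 of a tree -/
def subTreeJ5Part1 : List (ℕ × ℕ) := [(520, 1), (400, 0), (400, 1), (512, 0), (529, 0), (927, 1), (901, 0), (602, 0), (198, 0), (198, 1), (301, 0), (301, 1), (107, 0), (107, 1), (449, 1), (118, 0), (118, 1), (874, 0), (874, 1), (916, 0), (868, 0), (868, 1), (842, 1), (238, 0), (238, 1), (714, 0), (714, 1), (965, 0), (785, 0), (216, 1), (671, 0), (123, 0), (815, 0), (815, 1), (799, 0), (799, 1), (52, 0), (52, 1), (447, 0), (963, 0), (756, 1), (353, 1), (11, 0), (11, 1), (336, 0), (336, 1), (969, 0), (710, 0), (77, 1), (116, 0), (547, 0), (380, 0), (380, 1), (337, 0), (337, 1), (782, 0), (782, 1), (871, 0), (213, 0), (292, 1), (207, 0), (207, 1), (826, 0), (826, 1),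 (160, 0), (244, 0), (942, 1)]

/-- a tree -/
def subTreeJ5 : List (ℕ × ℕ) :=
  [subTreeJ5Part0, subTreeJ5Part1].flatten


/-- suborbit 5, of length 168 -/
def subMaskJ5 : ℕ := 0x1000001020400002eb0804428080100020000c0490150006000420842080024400029002910002044100a4093ac20200208018000004600000000041180002010902020a50400403428100042800410000501113234c0b020504802210008800500114601001228240400102838848400148528900100820020010001102440802

theorem subMaskJ5_closed : allUp (maskClosed certJA subMaskJ5) 11 0 = true := by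
  decide +kernel

theorem subMaskJ5_tree :
    (reach certJA certJA.subs subTreeJ5 (2 ^ 1) == some subMaskJ5) = true := by decide +kernel

theorem subMaskJ5_orbit : Suborbit certJA 1 subMaskJ5 :=
  ⟨⟨by decide +kernel, by decide +kernel⟩,
    fun x hx => allUp_spec subMaskJ5_closed x (Nat.zero_le _)
      (by have : certJA.N = 1045 := rfl; omega),
    _, beq_iff_eq.mp subMaskJ5_tree⟩

theorem subMaskJ5_size : popc subMaskJ5 1045 = 168 := by decide +kernel

/-- part 0 of a tree -/
def subTreeJ6Part0 : List (ℕ × ℕ) := [(2, 0), (2, 1), (302, 0), (302, 1), (137, 0), (137, 1), (416, 1), (952, 0), (952, 1), (53, 0), (53, 1), (836, 0), (836, 1), (254, 0), (254, 1), (511, 0), (511, 1), (106, 0), (106, 1), (88, 1), (277, 0), (277, 1), (410, 0), (410, 1), (764, 0), (764, 1), (646, 0), (646, 1), (365, 0), (365, 1), (936, 1), (177, 0), (177, 1), (99, 0), (99, 1), (20, 0), (20, 1), (626, 0), (626, 1), (1036, 0), (1040, 0), (1040, 1), (1034, 1), (984, 0), (174, 0), (174, 1), (757, 0), (355, 1), (606, 0), (606, 1), (733, 0), (733, 1),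 (919, 0), (919, 1), (682, 0), (682, 1), (374, 0), (125, 0), (125, 1), (157, 1), (904, 0), (148, 0), (148, 1), (267, 0), (610, 0), (610, 1), (1032, 0), (1032, 1), (378, 1), (849, 0), (849, 1), (938, 0), (938, 1), (580, 0), (496, 0), (496, 1), (869, 0), (869, 1), (62, 0), (612, 0), (612, 1), (136, 1), (729, 0), (317, 0), (317, 1), (532, 0), (1006, 0), (1006, 1), (839, 0), (839, 1), (424, 1), (630, 0), (630, 1), (684, 0), (684, 1), (763, 0), (920, 0), (920, 1), (1038, 1), (206, 0)]

/-- part 1 of a tree -/
def subTreeJ6Part1 : List (ℕ × ℕ) := [(206, 1), (786, 0), (786, 1), (931, 0), (1001, 0), (394, 1), (1005, 0), (205, 0), (151, 0), (151, 1), (998, 0), (998, 1), (294, 0), (294, 1), (323, 1), (983, 0), (983, 1), (940, 0), (940, 1), (112, 0), (433, 0), (433, 1), (703, 1), (462, 0), (462, 1), (823, 0), (823, 1), (80, 0), (833, 0), (474, 1), (897, 0), (523, 0), (185, 0), (185, 1), (397, 0), (397, 1), (784, 0), (784, 1), (851, 0), (754, 0), (430, 1), (1018, 1), (557, 0), (557, 1), (564, 0), (564, 1), (117, 0), (1037, 0), (945,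 1), (884, 0), (299, 0), (408, 0), (408, 1), (467, 0), (467, 1), (280, 0), (280, 1), (1024, 0), (1008, 0), (423, 1), (446, 0), (446, 1), (348, 0), (348, 1), (848, 0), (321, 0), (172, 1)]

/-- a tree -/
def subTreeJ6 : List (ℕ × ℕ) :=
  [subTreeJ6Part0, subTreeJ6Part1].flatten


/-- suborbit 6, of length 168 -/
def subMaskJ6 : ℕ := 0x177090401eb4809a20000410215080580010201128020200b009a08c01080080d80103825000022000000820014000000034002440094400000100010200401102c0080012100040840006032418115002400044020081040100a200048400120080240400040000065008b0258003090030020250408010308004020200000110114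

theorem subMaskJ6_closed : allUp (maskClosed certJA subMaskJ6) 11 0 = true := by
  decide +kernel

theorem subMaskJ6_tree :
    (reach certJA certJA.subs subTreeJ6 (2 ^ 2) == some subMaskJ6) = true := by decide +kernel

theorem subMaskJ6_orbit : Suborbit certJA 2 subMaskJ6 :=
  ⟨⟨by decide +kernel, by decide +kernel⟩,
    fun x hx => allUp_spec subMaskJ6_closed x (Nat.zero_le _)
      (by have : certJA.N = 1045 := rfl; omega),
    _, beq_iff_eq.mp subMaskJ6_tree⟩

theorem subMaskJ6_size : popc subMaskJ6 1045 = 168 := by decide +kernel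

/-- part 0 of a tree -/
def subTreeJ7Part0 : List (ℕ × ℕ) := [(5, 0), (5, 1), (138, 0), (138, 1), (565, 0), (565, 1), (420, 1), (232, 0), (232, 1), (968, 0), (968, 1), (771, 0), (771, 1), (964, 0), (964, 1), (603, 0), (603, 1), (255, 0), (255, 1), (944, 1), (468, 0), (468, 1), (367, 0), (367, 1), (341, 0), (341, 1), (622, 0), (622, 1), (617, 0), (617, 1), (422, 1), (69, 0), (69, 1), (808, 0), (808, 1), (10, 0), (10, 1), (135, 0), (135, 1), (862, 0), (266, 0), (266, 1), (500, 1), (46, 0), (281, 0), (281, 1), (852, 0), (982, 1), (544, 0), (544, 1), (715, 0), (715, 1), (432, 0), (432, 1), (638, 0), (638, 1), (14, 0), (39, 0), (39, 1), (390, 1), (211, 0), (226, 0), (226, 1), (276, 0), (132, 0), (132, 1), (263, 0), (263, 1), (614, 1), (713, 0), (713, 1), (115, 0), (115, 1), (613, 0), (272, 0), (272, 1), (996, 0), (996, 1), (911, 0), (503, 0), (503, 1), (797, 1), (1019, 0), (9, 0), (9, 1), (577, 0), (590, 0), (590, 1), (507, 0), (507, 1), (141, 1), (222, 0), (222, 1), (659, 0), (659, 1), (991, 0), (891, 0), (891, 1), (930, 1),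 (701, 0)]

/-- part 1 of a tree -/
def subTreeJ7Part1 : List (ℕ × ℕ) := [(701, 1), (744, 0), (744, 1), (727, 0), (459, 0), (296, 1), (293, 0), (877, 0), (330, 0), (330, 1), (824, 0), (824, 1), (845, 0), (845, 1), (631, 1), (1035, 0), (1035, 1), (17, 0), (17, 1), (471, 0), (750, 0), (750, 1), (804, 1), (278, 0), (278, 1), (898, 0), (898, 1), (324, 0), (208, 0), (57, 1), (356, 0), (516, 0), (527, 0), (527, 1), (78, 0), (78, 1), (541, 0), (541, 1), (914, 0), (59, 0), (236, 1), (313, 1), (878, 0), (878, 1), (679, 0), (679, 1), (611, 0), (974, 0), (689, 1), (825, 0), (168, 0), (594, 0), (594, 1), (1002, 0), (1002, 1), (442, 0), (442, 1), (95, 0), (98, 0), (814, 1), (582, 0), (582, 1), (766, 0), (766, 1), (923, 0), (792, 0), (619, 1)]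

/-- a tree -/
def subTreeJ7 : List (ℕ × ℕ) :=
  [subTreeJ7Part0, subTreeJ7Part1].flatten


/-- suborbit 7, of length 168 -/
def subMaskJ7 : ℕ := 0x2880008240410804041140009000468048804488060004030280183024310210000084108c50000902a00200200800408001040814a680814404600a0000120008010089000210090080104850054000200400004801400240c9002400120425114808200130450090002008401040200249400081004800040208a4240a048024620

theorem subMaskJ7_closed : allUp (maskClosed certJA subMaskJ7) 11 0 = true := by
  decide +kernel

theorem subMaskJ7_tree :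
    (reach certJA certJA.subs subTreeJ7 (2 ^ 5) == some subMaskJ7) = true := by decide +kernel

theorem subMaskJ7_orbit : Suborbit certJA 5 subMaskJ7 :=
  ⟨⟨by decide +kernel, by decide +kernel⟩,
    fun x hx => allUp_spec subMaskJ7_closed x (Nat.zero_le _)
      (by have : certJA.N = 1045 := rfl; omega),
    _, beq_iff_eq.mp subMaskJ7_tree⟩

theorem subMaskJ7_size : popc subMaskJ7 1045 = 168 := by decide +kernel

/-- part 0 of a tree -/
def subTreeJ8Part0 : List (ℕ × ℕ) := [(7, 0), (7, 1), (428, 0), (428, 1), (658, 0), (658, 1), (274, 1), (413, 0), (413, 1), (415, 0), (415, 1), (450, 0), (450, 1), (517, 0), (517, 1), (803, 0), (803, 1), (154, 0), (154, 1), (688, 1), (537, 0), (537, 1), (13, 0), (13, 1), (395, 0), (395, 1), (41, 0), (41, 1), (819, 0), (819, 1), (1009, 1), (472, 0), (472, 1), (620, 0), (620, 1), (305, 0), (305, 1), (696, 0), (696, 1), (917, 0), (980, 0), (980, 1), (210, 1), (235, 0), (705, 0), (705, 1), (794, 0), (549, 1), (79, 0), (79, 1), (215, 0), (215, 1), (896, 0), (896, 1), (954, 0), (954, 1), (562,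 0), (510, 0), (510, 1), (779, 1), (661, 0), (992, 0), (992, 1), (840, 0), (387, 0), (387, 1), (956, 0), (956, 1), (943, 1), (855, 0), (855, 1), (539, 0), (539, 1), (1029, 0), (403, 0), (403, 1), (854, 0), (854, 1), (664, 0), (906, 0), (906, 1), (295, 1), (31, 0), (373, 0), (373, 1), (359, 0), (526, 0), (526, 1), (66, 0), (66, 1), (494, 1), (600, 0), (600, 1), (121, 0), (121, 1), (587, 0), (1017, 0), (1017, 1), (285, 1), (444, 0)]

/-- part 1 of a tree -/
def subTreeJ8Part1 : List (ℕ × ℕ) := [(444, 1), (768, 0), (768, 1), (692, 0), (609, 0), (188, 1), (186, 0), (913, 0), (1042, 0), (1042, 1), (668, 0), (668, 1), (550, 0), (550, 1), (636, 1), (976, 0), (976, 1), (217, 0), (217, 1), (607, 0), (351, 0), (351, 1), (540, 1), (76, 0), (76, 1), (345, 0), (345, 1), (195, 0), (483, 0), (563, 1), (780, 0), (722, 0), (584, 0), (584, 1), (865, 0), (865, 1), (287, 0), (287, 1), (225, 0), (119, 0), (667, 1), (641, 1), (950, 0), (950, 1), (859, 0), (859, 1), (616, 0), (742, 0), (949, 1), (789, 0), (601, 0), (653, 0), (653, 1), (48, 0),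 (48, 1), (229, 0), (229, 1), (864, 0), (199, 0), (74, 1), (68, 0), (68, 1), (909, 0), (909, 1), (143, 0), (100, 0), (84, 1)]

/-- a tree -/
def subTreeJ8 : List (ℕ × ℕ) :=
  [subTreeJ8Part0, subTreeJ8Part1].flatten


/-- suborbit 8, of length 168 -/
def subMaskJ8 : ℕ := 0x400a002c20003001130003660802000622401804002430ac001044008004804201801000000400004002211110000392420821820150283001901050c04601a214020400040088340048410001200a0980808002008808210404000030080a004010000010822828400a81400045004008040028000104210941400050a0c80202080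

theorem subMaskJ8_closed : allUp (maskClosed certJA subMaskJ8) 11 0 = true := by
  decide +kernel

theorem subMaskJ8_tree :
    (reach certJA certJA.subs subTreeJ8 (2 ^ 7) == some subMaskJ8) = true := by decide +kernel

theorem subMaskJ8_orbit : Suborbit certJA 7 subMaskJ8 :=
  ⟨⟨by decide +kernel, by decide +kernel⟩,
    fun x hx => allUp_spec subMaskJ8_closed x (Nat.zero_le _)
      (by have : certJA.N = 1045 := rfl; omega),
    _, beq_iff_eq.mp subMaskJ8_tree⟩

theorem subMaskJ8_size : popc subMaskJ8 1045 = 168 := by decide +kernel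

/-- part 0 of a tree -/
def subTreeJ9Part0 : List (ℕ × ℕ) := [(12, 0), (12, 1), (26, 0), (26, 1), (654, 0), (654, 1), (300, 1), (384, 0), (384, 1), (604, 0), (604, 1), (306, 0), (306, 1), (308, 0), (308, 1), (1011, 0), (1011, 1), (698, 0), (698, 1), (460, 1), (586, 0), (586, 1), (19, 0), (19, 1), (453, 0), (453, 1), (530, 0), (530, 1), (120, 0), (120, 1), (194, 1), (102, 0), (102, 1), (524, 0), (524, 1), (591, 0), (591, 1), (970, 0), (970, 1), (880, 0), (504, 0), (504, 1), (144, 1), (495, 0), (289, 0), (289, 1), (175, 0), (451, 1), (392, 0), (392, 1), (218, 0), (218, 1), (634, 0), (634, 1), (487, 0), (487, 1), (152, 0), (15, 0), (15, 1), (358, 1), (939, 0), (978, 0), (978, 1), (655, 0), (738, 0), (738, 1), (551, 0), (551, 1), (910, 1), (781, 0), (781, 1), (38, 0), (38, 1), (86, 0), (581, 0), (581, 1), (315, 0), (315, 1), (259, 0), (912, 0), (912, 1), (307, 1), (902, 0), (239, 0), (239, 1), (1044, 0), (681, 0), (681, 1), (1026, 0), (1026, 1), (28, 1), (343, 0), (343, 1), (369, 0), (369, 1), (291, 0), (776, 0), (776, 1),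 (411, 1), (971, 0)]

/-- part 1 of a tree -/
def subTreeJ9Part1 : List (ℕ × ℕ) := [(971, 1), (1012, 0), (1012, 1), (146, 0), (149, 0), (362, 1), (798, 0), (572, 0), (103, 0), (103, 1), (173, 0), (173, 1), (788, 0), (788, 1), (1016, 1), (660, 0), (660, 1), (828, 0), (828, 1), (924, 0), (674, 0), (674, 1), (723, 1), (747, 0), (747, 1), (543, 0), (543, 1), (519, 0), (398, 0), (252, 1), (464, 0), (414, 0), (443, 0), (443, 1), (105, 0), (105, 1), (64, 0), (64, 1), (227, 0), (196, 0), (23, 1), (560, 1), (481, 0), (481, 1), (122, 0), (122, 1), (758, 0), (475, 0), (127, 1), (889, 0), (770, 0), (621, 0), (621, 1), (769, 0), (769, 1), (678, 0), (678, 1), (720, 0), (1020, 0), (531, 1), (599, 0), (599, 1), (699, 0), (699, 1), (829, 0), (876, 0), (476, 1)]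

/-- a tree -/
def subTreeJ9 : List (ℕ × ℕ) :=
  [subTreeJ9Part0, subTreeJ9Part1].flatten


/-- suborbit 9, of length 168 -/
def subMaskJ9 : ℕ := 0x1800049118000000040c000000081110014058220110000004400030000000421023a684402804c40900940c0042450011c004040020001080a4a81a010a80804c1080052090821801103808000800480043918002444001800000181c900f0000000c340080090c0000140020a00001250000850002e2004001010000044015889000

theorem subMaskJ9_closed : allUp (maskClosed certJA subMaskJ9) 11 0 = true := by
  decide +kernel

theorem subMaskJ9_tree :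
    (reach certJA certJA.subs subTreeJ9 (2 ^ 12) == some subMaskJ9) = true := by decide +kernel

theorem subMaskJ9_orbit : Suborbit certJA 12 subMaskJ9 :=
  ⟨⟨by decide +kernel, by decide +kernel⟩,
    fun x hx => allUp_spec subMaskJ9_closed x (Nat.zero_le _)
      (by have : certJA.N = 1045 := rfl; omega),
    _, beq_iff_eq.mp subMaskJ9_tree⟩

theorem subMaskJ9_size : popc subMaskJ9 1045 = 168 := by decide +kernel

theorem suborbitsJ : Suborbits certJA [subMaskJ0, subMaskJ1, subMaskJ2, subMaskJ3, subMaskJ4, subMaskJ5, subMaskJ6, subMaskJ7, subMaskJ8, subMaskJ9] where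
  orbit := by
    simp only [List.forall_mem_cons]
    exact ⟨⟨_, subMaskJ0_orbit⟩, ⟨_, subMaskJ1_orbit⟩, ⟨_, subMaskJ2_orbit⟩, ⟨_, subMaskJ3_orbit⟩, ⟨_, subMaskJ4_orbit⟩, ⟨_, subMaskJ5_orbit⟩, ⟨_, subMaskJ6_orbit⟩, ⟨_, subMaskJ7_orbit⟩, ⟨_, subMaskJ8_orbit⟩, ⟨_, subMaskJ9_orbit⟩, by simp⟩
  cover x hx := allUp_spec (f := fun x => !(Nat.blt x 1045) || maskCover certJA [subMaskJ0, subMaskJ1, subMaskJ2, subMaskJ3, subMaskJ4, subMaskJ5, subMaskJ6, subMaskJ7, subMaskJ8, subMaskJ9] x)
    (k := 11) (base := 0) (by decide +kernel) x (Nat.zero_le _)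
      (by have : certJA.N = 1045 := rfl; omega) |> fun h => by
        rw [show Nat.blt x 1045 = true by
          rw [Nat.blt_eq]; exact hx] at h
        simpa using h
  unions := by decide +kernel

end CfsgLib.ONSub
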