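import Cfsg.Agent.Lib.CosetEnum.Basic

/-!
Coset enumeration data: 11 cosets, 16 nodes, 31 facts.
-/

set_option autoImplicit false
set_option linter.style.longLine false

namespace CfsgLib.ONSub
open CfsgLib.CosetEnum

/-- the certificate -/
def certMA : Cert where
  K := 3
  invs := [0, 2, 1]
  rels := [[0, 0],
    [1, 1, 1, 1],
    [0, 1, 0, 1, 0, 1, 0, 1, 0, 1, 0, 1, 0, 1, 0, 1, 0, 1, 0, 1, 0, 1],
    [0, 1, 1, 0, 1, 1, 0, 1, 1, 0, 1, 1, 0, 1, 1, 0, 1, 1],
    [0, 1, 0, 1, 0, 2, 0, 1, 0, 1, 1, 0, 2, 0, 1, 0, 2, 0, 2]]
  subs := [[2],
    [0, 2, 0, 1, 0, 2, 1, 1, 0]]
  N := 11
  M := 16
  F := 31
  defs := (.leaf 0x1a000001800000161000012100001200000102000010100000c0000002100000a2000008000000610000040000002200000000000000)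
  facts := (.leaf 0x1000000f6000000020000480000090001800000f000000002000058c000090001000000ec0000000200007080000e0001800000e600000002000068c0000c0009800000c000006024000078c0000e00088000009e0000201c00007840000e000a800000740a00201400007040000f0000000000740000000000007800000d0000000000740000000000007000000c0000000000740000000000006840000b00018000006e0100200c00005040000c00000000006e0000000000006040000900000000006e0000000000005800000900090000004a0880c02400005000000a00000000004a0000000000005080000800000000004a0000000000004840000800000000004a00000000000040000006000900000026088100240000380000070001800000200100200c0000304000070000000000200000000000003840000100010000001c000000020000188000030001000000180000000200003080000200018000001200000002000020c000030004800000000100e00e000010c0000500000000000000000000000030800005000000000000000000000000280000040000000000000000000000002040000300000000000000000000000018000002000000000000000000000000108000010000000000000000000000000800000000000000000000000006000000800000)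
  refs := (.leaf 0x2500003a00002b00003600002600003300003400002f00003400002c00002c00002600002500002b00002f00003100002c00002600002500002b00002f00003200003000002e00002a00002400002700002d00003000002c00002600001e00001c00001800001600000200000100000100000300000500001300001d00002100002800002d00003000002e00002a00002400001e00001c00001800001a00001600000200000100000300000500000700001500000600001300001d00002100002200002800002d00002600001e00002100002000001c00001800001a00001600000200000000000300001700001a00001600000200000000000300000500001300001d00002100001600000200000000000300000500000700001500000600000400000200000000000300000500000700001400000600001300001800001600000500001300000900001000000c00000f00000b00000f00000700000d00000c00000a000008000006000004000002000003000005)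
  tab := (.leaf 0xa0000a0000900007000080000a000090000600008000060000900007000080000700004000010000400005000050000200006000030000300002000040000100003000020000500000000000000000001)
  nd := (.leaf 0xe00000c00000a000009000008000007000006000003000002000001000000)
  edge := (.leaf 0x3800003900002d00002700002800002c00002900002100002300001f00002600003d00002000001e00001d00001700001800001b00001900001300001c000014000015000007000012000005000006000004000016000003000000000001000002)
  img := (.leaf 0xa0000a0000900009000070000800007000060000500004000020000300003000020000100000)

end CfsgLib.ONSub
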