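import Cfsg.Agent.Lib.CosetEnum.Chain
import Cfsg.Agent.Lib.ONSub.CheckMA

/-!
Suborbits.
-/

set_option autoImplicit false
set_option linter.style.longLine false

namespace CfsgLib.ONSub
open CfsgLib.CosetEnum

/-- part 0 of a tree -/
def subTreeM0Part0 : List (ℕ × ℕ) := [(1, 0), (1, 1), (5, 0), (2, 1), (4, 1), (7, 1), (9, 0), (9, 1), (10, 1)]

/-- a tree -/
def subTreeM0 : List (ℕ × ℕ) :=
  [subTreeM0Part0].flatten


/-- suborbit 0, of length 10 -/
def subMaskM0 : ℕ := 0x7fe

theorem subMaskM0_closed : allUp (maskClosed certMA subMaskM0) 4 0 = true := by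
  decide +kernel

theorem subMaskM0_tree :
    (reach certMA certMA.subs subTreeM0 (2 ^ 1) == some subMaskM0) = true := by decide +kernel

theorem subMaskM0_orbit : Suborbit certMA 1 subMaskM0 :=
  ⟨⟨by decide +kernel, by decide +kernel⟩,
    fun x hx => allUp_spec subMaskM0_closed x (Nat.zero_le _)
      (by have : certMA.N = 11 := rfl; omega),
    _, beq_iff_eq.mp subMaskM0_tree⟩

theorem subMaskM0_size : popc subMaskM0 11 = 10 := by decide +kernel

theorem suborbitsM : Suborbits certMA [subMaskM0] where
  orbit := by
    simp only [List.forall_mem_cons]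
    exact ⟨⟨_, subMaskM0_orbit⟩, by simp⟩
  cover x hx := allUp_spec (f := fun x => !(Nat.blt x 11) || maskCover certMA [subMaskM0] x)
    (k := 4) (base := 0) (by decide +kernel) x (Nat.zero_le _)
      (by have : certMA.N = 11 := rfl; omega) |> fun h => by
        rw [show Nat.blt x 11 = true by
          rw [Nat.blt_eq]; exact hx] at h
        simpa using h
  unions := by decide +kernel

end CfsgLib.ONSub
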