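import Cfsg.Prelude.Def_Sporadic
import Cfsg.Agent.Lib.CosetEnum.TwoGen
import Cfsg.Agent.Lib.CosetEnum.Words
import Cfsg.Agent.Lib.ONSub.DataChainM
import Cfsg.Agent.Lib.ONSub.DataChainJ
import Cfsg.Agent.Lib.ONSub.SuborbitM
import Cfsg.Agent.Lib.ONSub.SuborbitJ
import Cfsg.Agent.Lib.ONSub.CheckMB
import Cfsg.Agent.Lib.ONSub.CheckMX
import Cfsg.Agent.Lib.ONSub.CheckJB
import Cfsg.Agent.Lib.ONSub.CheckJX

/-!
Two-generator presentations of simple groups of orders 7920 and 175560.
-/

set_option autoImplicit false

namespace CfsgLib.ONSub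

open CfsgLib.CosetEnum

/-- the relators of the group of order 7920 -/
def relsM : List (List ℕ) := certMA.rels

/-- the relators of the group of order 175560 -/
def relsJ : List (List ℕ) := certJA.rels

theorem okMA : twoOK relsM certMA = true := by decide +kernel
theorem okMB : twoOK relsM certMB = true := by decide +kernel
theorem okJA : twoOK relsJ certJA = true := by decide +kernel
theorem okJB : twoOK relsJ certJB = true := by decide +kernel

theorem isM11 : Cfsg.IsM11 (TwoGen relsM) := by
  let ρ := (exists_twoAction okMA certMA_complete certMA_action).choose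
  let H := Subgroup.closure {y | ∃ w ∈ certMA.subs, prodW (twoGen relsM) w = y}
  have s : Setup certMA H (twoGen relsM) ρ :=
    ⟨certMA_complete, certMA_action, twoModel okMA, twoGen_top okMA,
      (exists_twoAction okMA certMA_complete certMA_action).choose_spec, rfl⟩
  have hb : prodW (twoGen relsM) [1] ^ 4 = 1 := by
    rw [← prodW_powWord]
    exact twoGen_rel (by decide +kernel)
  obtain ⟨hf, hn⟩ := card_closure_single (ws := certMB.subs) rfl (by norm_num) hb
  haveI := hf
  have h := finite_card_le certMB_complete (twoModel okMB) 4 hn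
  rw [twoGen_top okMB] at h
  haveI := h.1
  haveI : Finite (TwoGen relsM) := Finite.of_equiv _ Subgroup.topEquiv.toEquiv
  have hle : Nat.card (TwoGen relsM) ≤ 7920 := by
    rw [← Nat.card_congr Subgroup.topEquiv.toEquiv]; exact h.2
  obtain ⟨hcard, hinj⟩ := s.card_eq hle (ls := levelsM) (by decide +kernel) (by decide +kernel)
  refine ⟨s.isSimpleGroup hinj (by rw [hcard]; norm_num) suborbitsM
    (p := 11) (a := 1) (k := 1) (w := [0, 1]) (by norm_num) (by decide +kernel)
    (by rw [hcard]; norm_num) ?_ certMX_complete rfl rfl rfl rfl (by decide +kernel), hcard⟩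
  rw [pow_one, ← prodW_powWord]
  exact twoGen_rel (by decide +kernel)

theorem isJ1 : Cfsg.IsJ1 (TwoGen relsJ) := by
  let ρ := (exists_twoAction okJA certJA_complete certJA_action).choose
  let H := Subgroup.closure {y | ∃ w ∈ certJA.subs, prodW (twoGen relsJ) w = y}
  have s : Setup certJA H (twoGen relsJ) ρ :=
    ⟨certJA_complete, certJA_action, twoModel okJA, twoGen_top okJA,
      (exists_twoAction okJA certJA_complete certJA_action).choose_spec, rfl⟩
  have hb : prodW (twoGen relsJ) [0, 1] ^ 7 = 1 := by
    rw [← prodW_powWord]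
    exact twoGen_rel (by decide +kernel)
  obtain ⟨hf, hn⟩ := card_closure_single (ws := certJB.subs) rfl (by norm_num) hb
  haveI := hf
  have h := finite_card_le certJB_complete (twoModel okJB) 7 hn
  rw [twoGen_top okJB] at h
  haveI := h.1
  haveI : Finite (TwoGen relsJ) := Finite.of_equiv _ Subgroup.topEquiv.toEquiv
  have hle : Nat.card (TwoGen relsJ) ≤ 175560 := by
    rw [← Nat.card_congr Subgroup.topEquiv.toEquiv]; exact h.2
  obtain ⟨hcard, hinj⟩ := s.card_eq hle (ls := levelsJ) (by decide +kernel) (by decide +kernel)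
  refine ⟨s.isSimpleGroup hinj (by rw [hcard]; norm_num) suborbitsJ
    (p := 5) (a := 1) (k := 1) (w := [0, 2, 0, 2, 0, 1, 0, 2, 0, 1, 0, 2, 0, 1]) (by norm_num)
    (by decide +kernel) (by rw [hcard]; norm_num) ?_ certJX_complete rfl rfl rfl rfl
    (by decide +kernel), hcard⟩
  rw [pow_one]
  exact s.pow_eq_one hinj (k := 11) (by decide +kernel) (by decide +kernel) (by decide +kernel)

end CfsgLib.ONSub
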